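import Groth.Prelude.Def_RedSub
import Mathlib.AlgebraicGeometry.Sites.Fpqc

/-!
# Formal properties of representable fppf quotients
-/

set_option autoImplicit false
set_option backward.isDefEq.respectTransparency false
set_option linter.style.haveILetI false

universe u

open CategoryTheory Limits MonoidalCategory CartesianMonoidalCategory MonObj AlgebraicGeometry

namespace Groth.Agent.RedQuotLib

variable {S : Scheme.{u}}

/-- An fppf covering over `S`. -/
def IsFppfCov {X Y : Over S} (q : X ⟶ Y) : Prop :=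
  Surjective q.left ∧ Flat q.left ∧ LocallyOfFinitePresentation q.left

namespace IsFppfCov

variable {X Y Z : Over S} {q : X ⟶ Y}

theorem of_isQuotient {G H Q : Over S} [GrpObj G] [GrpObj H] {i : H ⟶ G} {q : G ⟶ Q}
    (hq : RedSub.IsQuotient i q) : IsFppfCov q :=
  ⟨hq.1, hq.2.1, hq.2.2.1⟩

theorem of_isIso (f : X ⟶ Y) [IsIso f] : IsFppfCov f := by
  haveI : IsIso f.left := inferInstanceAs (IsIso ((Over.forget S).map f))
  exact ⟨inferInstance, inferInstance, inferInstance⟩

theorem comp {r : Y ⟶ Z} (hq : IsFppfCov q) (hr : IsFppfCov r) : IsFppfCov (q ≫ r) := by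
  obtain ⟨a, b, c⟩ := hq
  obtain ⟨a', b', c'⟩ := hr
  rw [IsFppfCov, Over.comp_left]
  exact ⟨inferInstance, inferInstance, inferInstance⟩

theorem tensor {X' Y' : Over S} {q' : X' ⟶ Y'} (hq : IsFppfCov q) (hq' : IsFppfCov q') :
    IsFppfCov (q ⊗ₘ q') := by
  rw [IsFppfCov, Over.tensorHom_left]
  exact ⟨MorphismProperty.pullbackMap (P := @Surjective) hq.1 hq'.1 (Over.w q).symm (Over.w q').symm,
    MorphismProperty.pullbackMap (P := @Flat) hq.2.1 hq'.2.1 (Over.w q).symm (Over.w q').symm,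
    MorphismProperty.pullbackMap (P := @LocallyOfFinitePresentation) hq.2.2 hq'.2.2
      (Over.w q).symm (Over.w q').symm⟩

theorem whiskerLeft (hq : IsFppfCov q) (Z : Over S) : IsFppfCov (Z ◁ q) := by
  rw [← id_tensorHom]
  exact tensor (of_isIso (𝟙 Z)) hq

theorem whiskerRight (hq : IsFppfCov q) (Z : Over S) : IsFppfCov (q ▷ Z) := by
  rw [← tensorHom_id]
  exact tensor hq (of_isIso (𝟙 Z))

theorem epi_left (hq : IsFppfCov q) : Epi q.left := by
  haveI := hq.1; haveI := hq.2.1; haveI := hq.2.2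
  infer_instance

theorem epi (hq : IsFppfCov q) : Epi q :=
  (Over.forget S).epi_of_epi_map (f := q) hq.epi_left

/-- A morphism constant on the kernel pair of an fppf covering descends. -/
theorem exists_desc (hq : IsFppfCov q) (f : X ⟶ Z)
    (h : ∀ {W : Over S} (a b : W ⟶ X), a ≫ q = b ≫ q → a ≫ f = b ≫ f) :
    ∃ g : Y ⟶ Z, q ≫ g = f := by
  haveI := hq.1; haveI := hq.2.1; haveI := hq.2.2
  haveI : EffectiveEpi q.left := inferInstance
  haveI := hq.epi_left
  let g₀ : Y.left ⟶ Z.left := EffectiveEpi.desc q.left f.left (fun {W} a b hab => by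
    let W' : Over S := Over.mk (a ≫ X.hom)
    let a' : W' ⟶ X := Over.homMk a rfl
    let b' : W' ⟶ X := Over.homMk b (by
      show b ≫ X.hom = a ≫ X.hom
      rw [← Over.w q, ← Category.assoc, ← hab, Category.assoc])
    exact congrArg CommaMorphism.left (h a' b' (Over.OverMorphism.ext hab)))
  have hg₀ : q.left ≫ g₀ = f.left := EffectiveEpi.fac _ _ _
  exact ⟨Over.homMk g₀ (by rw [← cancel_epi q.left, ← Category.assoc, hg₀, Over.w f, Over.w q]),
    Over.OverMorphism.ext hg₀⟩

/-- Points lift along an fppf covering. -/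
theorem exists_lift (hq : IsFppfCov q) {W : Over S} (x : W ⟶ Y) :
    ∃ (W' : Over S) (p : W' ⟶ W) (y : W' ⟶ X), IsFppfCov p ∧ y ≫ q = p ≫ x := by
  refine ⟨Over.mk (pullback.fst x.left q.left ≫ W.hom), Over.homMk (pullback.fst x.left q.left) rfl,
    Over.homMk (pullback.snd x.left q.left) (by
      show pullback.snd x.left q.left ≫ X.hom = pullback.fst x.left q.left ≫ W.hom
      rw [← Over.w q, ← pullback.condition_assoc, Over.w x]),
    ⟨MorphismProperty.pullback_fst _ _ hq.1, MorphismProperty.pullback_fst _ _ hq.2.1,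
      MorphismProperty.pullback_fst _ _ hq.2.2⟩, Over.OverMorphism.ext pullback.condition.symm⟩

end IsFppfCov

section Quotient

variable {G H Q : Over S} [GrpObj G] [GrpObj H] {i : H ⟶ G} {q : G ⟶ Q}

theorem act_eq {W : Over S} (t : W ⟶ G ⊗ H) :
    t ≫ ((G ◁ i) ≫ μ[G]) = (t ≫ fst G H) * ((t ≫ snd G H) ≫ i) := by
  rw [Hom.mul_def, ← Category.assoc]
  congr 1
  ext <;> simp

/-- Two points have the same image in `G/H` iff they differ by a point of `H`. -/
theorem comp_eq_iff (hq : RedSub.IsQuotient i q) {W : Over S} (a b : W ⟶ G) :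
    a ≫ q = b ≫ q ↔ ∃ h : W ⟶ H, b = a * (h ≫ i) := by
  constructor
  · intro h
    obtain ⟨t, ht1, ht2⟩ := hq.2.2.2.exists_lift a b h
    exact ⟨t ≫ snd G H, by rw [← ht2, act_eq, ht1]⟩
  · rintro ⟨h, rfl⟩
    have hw := congrArg (fun f => CartesianMonoidalCategory.lift a h ≫ f) hq.2.2.2.w
    simp only [lift_fst_assoc] at hw
    rw [hw, ← Category.assoc, act_eq, lift_fst, lift_snd]

/-- The quotient map is constant on cosets. -/
theorem mul_comp_eq (hq : RedSub.IsQuotient i q) {W : Over S} (a : W ⟶ G) (h : W ⟶ H) :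
    (a * (h ≫ i)) ≫ q = a ≫ q :=
  ((comp_eq_iff hq a (a * (h ≫ i))).2 ⟨h, rfl⟩).symm

/-- A morphism constant on cosets descends to the quotient. -/
theorem exists_desc (hq : RedSub.IsQuotient i q) {Z : Over S} (f : G ⟶ Z)
    (hf : ∀ {W : Over S} (a : W ⟶ G) (h : W ⟶ H), (a * (h ≫ i)) ≫ f = a ≫ f) :
    ∃ g : Q ⟶ Z, q ≫ g = f :=
  (IsFppfCov.of_isQuotient hq).exists_desc f fun a b e => by
    obtain ⟨h, rfl⟩ := (comp_eq_iff hq a b).1 e
    exact (hf a h).symm

end Quotient

end Groth.Agent.RedQuotLib
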