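import Groth.Agent.RedQuotLib.Basic
import Groth.Agent.AlgSpLib.FppfSource
import Groth.Agent.FlatLocal.Descent

/-!
# Recognising fppf quotients from local data
-/

set_option autoImplicit false
set_option backward.isDefEq.respectTransparency false
set_option linter.style.haveILetI false

universe u

open CategoryTheory Limits MonoidalCategory CartesianMonoidalCategory MonObj AlgebraicGeometry

namespace Groth.Agent.RedQuotLib

variable {S : Scheme.{u}}

theorem IsFppfCov.of_comp {X Y Z : Over S} {q : X ⟶ Y} {r : Y ⟶ Z} (hq : IsFppfCov q)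
    (hc : IsFppfCov (q ≫ r)) : IsFppfCov r := by
  haveI := hq.1; haveI := hq.2.1; haveI := hq.2.2
  obtain ⟨a, b, c⟩ := hc
  rw [Over.comp_left] at a b c
  exact ⟨Surjective.of_comp q.left r.left, FlatLocal.flat_of_comp q.left r.left,
    AlgSpLib.lfp_of_comp_fppf q.left r.left c⟩

/-- A cartesian square from joint injectivity and local existence of lifts. -/
theorem isPullback_of_local {P X Y Z : Over S} {f₁ : P ⟶ X} {f₂ : P ⟶ Y} {f : X ⟶ Z}
    {g : Y ⟶ Z} (w : f₁ ≫ f = f₂ ≫ g)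
    (inj : ∀ {W : Over S} (u v : W ⟶ P), u ≫ f₁ = v ≫ f₁ → u ≫ f₂ = v ≫ f₂ → u = v)
    (loc : ∀ {W : Over S} (a : W ⟶ X) (b : W ⟶ Y), a ≫ f = b ≫ g →
      ∃ (W' : Over S) (p : W' ⟶ W) (u : W' ⟶ P), IsFppfCov p ∧ u ≫ f₁ = p ≫ a ∧
        u ≫ f₂ = p ≫ b) :
    IsPullback f₁ f₂ f g := by
  have ex : ∀ (s : PullbackCone f g), ∃ l : s.pt ⟶ P, l ≫ f₁ = s.fst ∧ l ≫ f₂ = s.snd := by
    intro s
    obtain ⟨W', p, u, hp, h₁, h₂⟩ := loc s.fst s.snd s.condition
    obtain ⟨l, hl⟩ := hp.exists_desc u fun a b e => inj _ _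
      (by rw [Category.assoc, Category.assoc, h₁, ← Category.assoc, e, Category.assoc])
      (by rw [Category.assoc, Category.assoc, h₂, ← Category.assoc, e, Category.assoc])
    haveI := hp.epi
    refine ⟨l, ?_, ?_⟩ <;> rw [← cancel_epi p, ← Category.assoc, hl]
    · exact h₁
    · exact h₂
  exact ⟨⟨w⟩, ⟨PullbackCone.IsLimit.mk w (fun s => (ex s).choose)
    (fun s => (ex s).choose_spec.1) (fun s => (ex s).choose_spec.2)
    (fun s m h₁ h₂ => inj _ _ (h₁.trans (ex s).choose_spec.1.symm)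
      (h₂.trans (ex s).choose_spec.2.symm))⟩⟩

/-- A criterion for being the quotient by a subgroup. -/
theorem isQuotient_of_local {G H Q : Over S} [GrpObj G] [GrpObj H] {i : H ⟶ G} [Mono i]
    {q : G ⟶ Q} (hq : IsFppfCov q)
    (hinv : ∀ {W : Over S} (a : W ⟶ G) (h : W ⟶ H), (a * (h ≫ i)) ≫ q = a ≫ q)
    (hloc : ∀ {W : Over S} (a b : W ⟶ G), a ≫ q = b ≫ q →
      ∃ (W' : Over S) (p : W' ⟶ W) (h : W' ⟶ H), IsFppfCov p ∧ p ≫ b = (p ≫ a) * (h ≫ i)) :
    RedSub.IsQuotient i q := by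
  refine ⟨hq.1, hq.2.1, hq.2.2, isPullback_of_local ?_ ?_ ?_⟩
  · have e := act_eq (i := i) (𝟙 (G ⊗ H))
    rw [Category.id_comp] at e
    rw [e, hinv, Category.id_comp]
  · intro W u v h₁ h₂
    rw [act_eq, act_eq, h₁] at h₂
    refine CartesianMonoidalCategory.hom_ext _ _ h₁ ?_
    rw [← cancel_mono i]
    exact mul_left_cancel h₂
  · intro W a b e
    obtain ⟨W', p, h, hp, hb⟩ := hloc a b e
    refine ⟨W', p, CartesianMonoidalCategory.lift (p ≫ a) h, hp, lift_fst _ _, ?_⟩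
    rw [act_eq, lift_fst, lift_snd, hb]

end Groth.Agent.RedQuotLib
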