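import Groth.Agent.RedQuotLib.Basic

/-!
# The group structure on the quotient by a normal subgroup
-/

set_option autoImplicit false
set_option backward.isDefEq.respectTransparency false
set_option linter.style.haveILetI false

universe u

open CategoryTheory Limits MonoidalCategory CartesianMonoidalCategory MonObj AlgebraicGeometry

namespace Groth.Agent.RedQuotLib

variable {S : Scheme.{u}} {G H Q : Over S} [GrpObj G] [GrpObj H] {incl : H ⟶ G} {q : G ⟶ Q}

theorem tensor_mul_invariant [IsMonHom incl] (hn : AlgGrp.IsNormalHom incl)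
    (hq : RedSub.IsQuotient incl q) {W : Over S} (a b : W ⟶ G ⊗ G)
    (e : a ≫ (q ⊗ₘ q) = b ≫ (q ⊗ₘ q)) : a ≫ μ[G] ≫ q = b ≫ μ[G] ≫ q := by
  have e₁ : (a ≫ fst G G) ≫ q = (b ≫ fst G G) ≫ q := by
    simpa [Category.assoc] using congrArg (fun f => f ≫ fst Q Q) e
  have e₂ : (a ≫ snd G G) ≫ q = (b ≫ snd G G) ≫ q := by
    simpa [Category.assoc] using congrArg (fun f => f ≫ snd Q Q) e
  obtain ⟨h₁, hb₁⟩ := (comp_eq_iff hq _ _).1 e₁
  obtain ⟨h₂, hb₂⟩ := (comp_eq_iff hq _ _).1 e₂
  have ka : a ≫ μ[G] = (a ≫ fst G G) * (a ≫ snd G G) := by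
    rw [Hom.mul_def]; congr 1; ext <;> simp
  have kb : b ≫ μ[G] = (b ≫ fst G G) * (b ≫ snd G G) := by
    rw [Hom.mul_def]; congr 1; ext <;> simp
  set x := a ≫ fst G G
  set y := a ≫ snd G G
  obtain ⟨h', hh'⟩ := hn W y⁻¹ h₁
  rw [inv_inv] at hh'
  have key : (b ≫ fst G G) * (b ≫ snd G G) = x * y * ((h' * h₂) ≫ incl) := by
    rw [hb₁, hb₂, MonObj.mul_comp, ← hh']
    simp [_root_.mul_assoc]
  rw [← Category.assoc, ← Category.assoc, ka, kb, key, mul_comp_eq hq]

theorem inv_invariant [IsMonHom incl] (hn : AlgGrp.IsNormalHom incl)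
    (hq : RedSub.IsQuotient incl q) {W : Over S} (a : W ⟶ G) (h : W ⟶ H) :
    (a * (h ≫ incl)) ≫ GrpObj.inv ≫ q = a ≫ GrpObj.inv ≫ q := by
  obtain ⟨h', hh'⟩ := hn W a h⁻¹
  have k : (a * (h ≫ incl)) ≫ GrpObj.inv = (a ≫ GrpObj.inv) * (h' ≫ incl) := by
    rw [← Hom.inv_def, ← Hom.inv_def, ← hh', GrpObj.inv_comp]
    simp [_root_.mul_assoc]
  rw [← Category.assoc, ← Category.assoc, k, mul_comp_eq hq]

/-- The quotient by a normal subgroup has a group structure for which the projection is a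
homomorphism. -/
theorem exists_grpObj [IsMonHom incl] (hn : AlgGrp.IsNormalHom incl)
    (hq : RedSub.IsQuotient incl q) :
    ∃ s : GrpObj Q, @IsMonHom (Over S) _ _ G Q _ s.toMonObj q := by
  have hc := IsFppfCov.of_isQuotient hq
  haveI := hc.epi
  haveI := (hc.tensor hc).epi
  haveI := ((hc.tensor hc).tensor hc).epi
  haveI := (hc.whiskerLeft (𝟙_ (Over S))).epi
  haveI := (hc.whiskerRight (𝟙_ (Over S))).epi
  obtain ⟨m, hm⟩ := (hc.tensor hc).exists_desc (μ[G] ≫ q) (tensor_mul_invariant hn hq)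
  obtain ⟨n, hn'⟩ := exists_desc hq (GrpObj.inv ≫ q) (inv_invariant hn hq)
  have h₁ : (η[G] ≫ q) ▷ Q ≫ m = (λ_ Q).hom := by
    rw [← cancel_epi (𝟙_ (Over S) ◁ q), leftUnitor_naturality, ← Category.assoc,
      whisker_exchange, comp_whiskerRight, Category.assoc, Category.assoc, ← tensorHom_def_assoc, hm]
    rw [one_mul_assoc]
  have h₂ : Q ◁ (η[G] ≫ q) ≫ m = (ρ_ Q).hom := by
    rw [← cancel_epi (q ▷ 𝟙_ (Over S)), rightUnitor_naturality, ← Category.assoc,
      ← whisker_exchange, whiskerLeft_comp, Category.assoc, Category.assoc, ← tensorHom_def'_assoc, hm]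
    rw [mul_one_assoc]
  have h₃ : m ▷ Q ≫ m = (α_ Q Q Q).hom ≫ Q ◁ m ≫ m := by
    rw [← cancel_epi ((q ⊗ₘ q) ⊗ₘ q), ← Category.assoc, ← Category.assoc,
      associator_naturality, ← tensorHom_id m, tensorHom_comp_tensorHom, hm, Category.comp_id,
      Category.assoc, ← Category.assoc (q ⊗ₘ q ⊗ₘ q), ← id_tensorHom, tensorHom_comp_tensorHom,
      hm, Category.comp_id, ← Category.id_comp q, ← tensorHom_comp_tensorHom,
      ← tensorHom_comp_tensorHom, Category.id_comp q, Category.assoc, Category.assoc, hm,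
      tensorHom_id, id_tensorHom, mul_assoc_assoc]
  have h₄ : CartesianMonoidalCategory.lift n (𝟙 Q) ≫ m = toUnit Q ≫ η[G] ≫ q := by
    rw [← cancel_epi q, ← Category.assoc, comp_lift, hn', Category.comp_id,
      ← Category.id_comp q, ← lift_map, Category.id_comp q, Category.assoc, hm,
      GrpObj.left_inv_assoc]
    simp [← Category.assoc]
  have h₅ : CartesianMonoidalCategory.lift (𝟙 Q) n ≫ m = toUnit Q ≫ η[G] ≫ q := by
    rw [← cancel_epi q, ← Category.assoc, comp_lift, hn', Category.comp_id,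
      ← Category.id_comp q, ← lift_map, Category.id_comp q, Category.assoc, hm,
      GrpObj.right_inv_assoc]
    simp [← Category.assoc]
  let s : GrpObj Q :=
    { one := η[G] ≫ q
      mul := m
      one_mul := h₁
      mul_one := h₂
      mul_assoc := h₃
      inv := n
      left_inv := h₄
      right_inv := h₅ }
  letI := s
  exact ⟨s, { one_hom := rfl, mul_hom := hm.symm }⟩

end Groth.Agent.RedQuotLib
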